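import Mathlib.RingTheory.RingHom.Flat
import Mathlib.RingTheory.Ideal.Height
import Mathlib.RingTheory.Ideal.MinimalPrime.Noetherian
import Mathlib.RingTheory.Ideal.MinimalPrime.Localization
import Mathlib.RingTheory.Spectrum.Prime.ConstructibleSet

/-!
# Fractions regular away from a point of height at most one
-/

set_option autoImplicit false
set_option linter.style.haveILetI false

universe u

open PrimeSpectrum

namespace Groth.Agent.GrossCodim

variable {A C : Type u} [CommRing A] [CommRing C]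

/-- A minimal prime in a constructible set is interior to it. -/
theorem mem_interior_of_minimal {s : Set (PrimeSpectrum A)} (hs : Topology.IsConstructible s) {η : PrimeSpectrum A}
    (hmin : η.asIdeal ∈ minimalPrimes A) (hη : η ∈ s) : η ∈ interior s := by
  by_contra h
  have h' : η ∈ closure sᶜ := by rwa [closure_compl]
  obtain ⟨S, _, f, hf⟩ := exists_range_eq_of_isConstructible hs.compl
  rw [← hf, closure_range_comap, mem_zeroLocus, SetLike.coe_subset_coe] at h'
  have hm : η.asIdeal ∈ ((⊥ : Ideal S).comap f).minimalPrimes :=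
    ⟨⟨η.isPrime, h'⟩, fun J hJ hle => hmin.2 ⟨hJ.1, bot_le⟩ hle⟩
  obtain ⟨p', hp', -, he⟩ := Ideal.exists_comap_eq_of_mem_minimalPrimes f (I := ⊥) η.asIdeal hm
  have hmem : η ∈ sᶜ := hf ▸ ⟨⟨p', hp'⟩, PrimeSpectrum.ext he⟩
  exact hmem hη

/-- An element outside all minimal primes of a reduced ring is regular. -/
theorem isSMulRegular_of_notMem_minimalPrimes [IsReduced C] {t : C} (h : ∀ Q ∈ minimalPrimes C, t ∉ Q) :
    IsSMulRegular C t := by
  refine (isSMulRegular_iff_right_eq_zero_of_smul (R := C) (M := C) (r := t)).2 fun z hz => ?_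
  have hmem : z ∈ (⊥ : Ideal C).radical := by
    rw [← Ideal.sInf_minimalPrimes, Submodule.mem_sInf]
    intro (Q : Ideal C) hQ
    have hp : Q.IsPrime := hQ.1.1
    have : t * z ∈ Q := by rw [← smul_eq_mul, hz]; exact Q.zero_mem
    exact (hp.mem_or_mem this).resolve_left (h Q hQ)
  obtain ⟨n, hn⟩ := hmem
  exact IsReduced.eq_zero z ⟨n, by simpa using hn⟩

/-- A point of height at most one outside an open image gives a new regular fraction. -/
theorem exists_fraction [IsNoetherianRing A] [IsNoetherianRing C] [IsReduced C] (f : A →+* C)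
    (hf : Function.Injective f) (hR : IsOpen (Set.range (comap f))) {p : PrimeSpectrum A}
    (hp : p ∉ Set.range (comap f)) (hh : p.asIdeal.height < 2) :
    ∃ (t : A) (s : A) (F : C), t ∈ p.asIdeal ∧ s ∉ p.asIdeal ∧ IsSMulRegular C (f t) ∧ f t * F = f s := by
  classical
  -- points of the image avoid `p`
  have hgen : ∀ Q : PrimeSpectrum C, ¬ p.asIdeal ≤ (comap f Q).asIdeal := fun Q hQ =>
    hp (((le_iff_specializes p (comap f Q)).1 hQ).mem_open hR ⟨Q, rfl⟩)
  have hminA : ∀ q ∈ minimalPrimes A, ¬ p.asIdeal ≤ q := fun q hq hle => by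
    obtain ⟨Q, hQp, hQ⟩ := Ideal.exists_comap_eq_of_mem_minimalPrimes_of_injective hf q hq
    exact hgen ⟨Q, hQp⟩ (by show p.asIdeal ≤ Q.comap f; rw [hQ]; exact hle)
  obtain ⟨t, htp, ht⟩ : ∃ t ∈ p.asIdeal, (∀ q ∈ minimalPrimes A, t ∉ q) ∧ ∀ Q ∈ minimalPrimes C, f t ∉ Q := by
    by_contra hc
    push Not at hc
    let S : Finset (Ideal A) := (minimalPrimes.finite_of_isNoetherianRing (R := A)).toFinset ∪
      ((minimalPrimes.finite_of_isNoetherianRing (R := C)).toFinset.image (Ideal.comap f))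
    have hsub : (p.asIdeal : Set A) ⊆ ⋃ I ∈ (↑S : Set (Ideal A)), (I : Set A) := by
      intro x hx
      simp only [Set.mem_iUnion, SetLike.mem_coe, exists_prop]
      by_cases h1 : ∀ q ∈ minimalPrimes A, x ∉ q
      · obtain ⟨Q, hQ, hxQ⟩ := hc x hx h1
        exact ⟨Q.comap f, Finset.mem_union_right _
          (Finset.mem_image.2 ⟨Q, (Set.Finite.mem_toFinset _).2 hQ, rfl⟩), hxQ⟩
      · push Not at h1
        obtain ⟨q, hq, hxq⟩ := h1
        exact ⟨q, Finset.mem_union_left _ ((Set.Finite.mem_toFinset _).2 hq), hxq⟩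
    have hprime : ∀ I ∈ S, I.IsPrime := by
      intro I hI
      rcases Finset.mem_union.1 hI with hI | hI
      · exact ((Set.Finite.mem_toFinset _).1 hI).1.1
      · obtain ⟨Q, hQ, rfl⟩ := Finset.mem_image.1 hI
        haveI := ((Set.Finite.mem_toFinset _).1 hQ).1.1
        exact inferInstance
    obtain ⟨I, hI, hle⟩ := (Ideal.subset_union_prime (f := fun I : Ideal A => I) ⊥ ⊥ (fun i hi _ _ => hprime i hi)).1 hsub
    rcases Finset.mem_union.1 hI with hI | hI
    · exact hminA I ((Set.Finite.mem_toFinset _).1 hI) hle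
    · obtain ⟨Q, hQ, rfl⟩ := Finset.mem_image.1 hI
      exact hgen ⟨Q, ((Set.Finite.mem_toFinset _).1 hQ).1.1⟩ hle
  obtain ⟨htA, htC⟩ := ht
  -- denominators
  let Sig : Ideal C :=
    { carrier := {c | ∃ s, s ∉ p.asIdeal ∧ f s * c ∈ Ideal.span {f t}}
      zero_mem' := ⟨1, (Ideal.ne_top_iff_one _).1 p.isPrime.ne_top, by simp⟩
      add_mem' := by
        rintro a b ⟨s, hs, ha⟩ ⟨s', hs', hb⟩
        refine ⟨s * s', fun h => (p.isPrime.mem_or_mem h).elim hs hs', ?_⟩
        rw [map_mul, show f s * f s' * (a + b) = f s' * (f s * a) + f s * (f s' * b) by ring]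
        exact add_mem (Ideal.mul_mem_left _ _ ha) (Ideal.mul_mem_left _ _ hb)
      smul_mem' := by
        rintro c a ⟨s, hs, ha⟩
        exact ⟨s, hs, by rw [smul_eq_mul, mul_left_comm]; exact Ideal.mul_mem_left _ _ ha⟩ }
  have hSig : Sig = ⊤ := by
    by_contra hne
    obtain ⟨Q, hQ, hle⟩ := Ideal.exists_le_maximal Sig hne
    obtain ⟨_, ⟨g, rfl⟩, hQg, hgR⟩ := isTopologicalBasis_basic_opens.exists_subset_of_mem_open
      (Set.mem_range_self (f := comap f) ⟨Q, hQ.isPrime⟩) hR
    have hgQ : f g ∉ Q := hQg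
    obtain ⟨q, hqp, hq1, hq2⟩ | ⟨a, ha, hta⟩ :
        (∃ q : Ideal A, q.IsPrime ∧ Ideal.span {t} ≤ q ∧ Disjoint (q : Set A) ↑(Submonoid.powers g ⊔ p.asIdeal.primeCompl)) ∨
        ∃ a ∈ Submonoid.powers g ⊔ p.asIdeal.primeCompl, a ∈ Ideal.span {t} := by
      by_cases hd : Disjoint (Ideal.span {t} : Set A) ↑(Submonoid.powers g ⊔ p.asIdeal.primeCompl)
      · exact Or.inl (Ideal.exists_le_prime_disjoint _ _ hd)
      · obtain ⟨a, ha1, ha2⟩ := Set.not_disjoint_iff.1 hd
        exact Or.inr ⟨a, ha2, ha1⟩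
    · have hgq : g ∉ q := fun h =>
        Set.disjoint_left.1 hq2 h (Submonoid.mem_sup_left (Submonoid.mem_powers g))
      have hle' : q ≤ p.asIdeal := fun x hx => by
        by_contra hxp
        exact Set.disjoint_left.1 hq2 hx (Submonoid.mem_sup_right hxp)
      have hgp : g ∈ p.asIdeal := by
        by_contra hgp
        exact hp (hgR (show p ∈ (basicOpen g : Set (PrimeSpectrum A)) from hgp))
      have hlt : q < p.asIdeal := lt_of_le_of_ne hle' fun e => hgq (e ▸ hgp)
      haveI := hqp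
      obtain ⟨q₀, hq₀, hq₀le⟩ := Ideal.exists_minimalPrimes_le (J := q) bot_le
      have hlt₀ : q₀ < q := lt_of_le_of_ne hq₀le fun e =>
        htA q₀ hq₀ (e ▸ hq1 (Ideal.mem_span_singleton_self t))
      haveI := hq₀.1.1
      have h1 := Ideal.height_add_one_le_of_lt_of_isPrime hlt₀
      have h2 := Ideal.height_add_one_le_of_lt_of_isPrime hlt
      refine absurd hh (not_lt.2 (le_trans ?_ h2))
      calc (2 : ℕ∞) = 1 + 1 := by norm_num
        _ ≤ q.height + 1 := by gcongr; exact le_trans le_add_self h1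
    · obtain ⟨y, ⟨n, rfl⟩, z, hz, rfl⟩ := Submonoid.mem_sup.1 ha
      obtain ⟨b, hb⟩ := Ideal.mem_span_singleton'.1 hta
      refine hgQ (hQ.isPrime.mem_of_pow_mem n (hle ⟨z, hz, ?_⟩))
      refine Ideal.mem_span_singleton'.2 ⟨f b, ?_⟩
      rw [← map_mul, hb]
      show f (g ^ n * z) = _
      rw [map_mul, map_pow]
      ring
  obtain ⟨s, hs, hst⟩ : (1 : C) ∈ Sig := hSig ▸ Submodule.mem_top
  rw [mul_one] at hst
  obtain ⟨F, hF⟩ := Ideal.mem_span_singleton'.1 hst
  exact ⟨t, s, F, htp, hs, isSMulRegular_of_notMem_minimalPrimes htC, by rw [mul_comm, hF]⟩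

/-- The rings with a common regular element. -/
theorem eqLocus_of_mul {D : Type u} [CommRing D] (a b : C →+* D) {t F : C} (hflat : b.Flat) (ht : IsSMulRegular C t)
    (hta : a t = b t) (htF : a (t * F) = b (t * F)) : a F = b F := by
  letI := b.toAlgebra
  haveI : Module.Flat C D := hflat
  have h : IsSMulRegular D (algebraMap C D t) := ht.of_flat
  apply h
  show b t * a F = b t * b F
  rw [← hta, ← map_mul, htF, map_mul, hta]

end Groth.Agent.GrossCodim
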