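import Groth.Agent.GrossCodim.Algebra
import Groth.Agent.SubGen.AlgClosed
import Groth.Agent.SmoothRed.Scheme
import Groth.Prelude.Def_W4bk4grossh111Obs
import Mathlib.RingTheory.Spectrum.Prime.Chevalley

/-!
# The image of a group in the spectrum of its invariant functions
-/

set_option autoImplicit false
set_option backward.isDefEq.respectTransparency false
set_option linter.style.haveILetI false

universe u

open CategoryTheory CategoryTheory.Limits MonoidalCategory CartesianMonoidalCategory MonObj GrpObj AlgebraicGeometry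
open Groth.Agent.SubGen (rpt exists_rpt map_rpt)

noncomputable section

namespace Groth.Agent.GrossCodim

variable {k : Type u} [Field k] [IsAlgClosed k] {G H : Over (Spec (CommRingCat.of k))} [GrpObj G]

/-- The translation of the group. -/
def tau (g : 𝟙_ (Over (Spec (CommRingCat.of k))) ⟶ G) : G ⟶ G := (toUnit G ≫ g) * 𝟙 G

theorem tau_tau (g h : 𝟙_ (Over (Spec (CommRingCat.of k))) ⟶ G) : tau g ≫ tau h = tau (h * g) := by
  have key : ∀ f : G ⟶ G, f ≫ toUnit G ≫ h = toUnit G ≫ h := fun f => by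
    rw [← Category.assoc, toUnit_unique (f ≫ toUnit G) (toUnit G)]
  rw [tau, tau, tau, MonObj.comp_mul, Category.comp_id, key, ← _root_.mul_assoc, MonObj.comp_mul]

theorem tau_one : tau (1 : 𝟙_ (Over (Spec (CommRingCat.of k))) ⟶ G) = 𝟙 G := by
  simp [tau]

theorem comp_tau (q g : 𝟙_ (Over (Spec (CommRingCat.of k))) ⟶ G) : q ≫ tau g = g * q := by
  simp only [tau, MonObj.comp_mul, Category.comp_id, ← Category.assoc]
  rw [toUnit_unique (q ≫ toUnit G) (𝟙 _), Category.id_comp]

variable (i : H ⟶ G)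

theorem tau_mem (g : 𝟙_ (Over (Spec (CommRingCat.of k))) ⟶ G) {f : Γ(G.left, ⊤)} (hf : f ∈ AGF.rTransInv i) :
    (tau g).left.appTop f ∈ AGF.rTransInv i := by
  have e1 : ((G ◁ i) ≫ μ[G]) ≫ tau g = (tau g ▷ H) ≫ (G ◁ i) ≫ μ[G] := by
    have hμ : (G ◁ i) ≫ μ[G] = fst G H * (snd G H ≫ i) := by
      rw [Hom.mul_def]
      congr 1
    rw [hμ]
    simp only [tau, MonObj.comp_mul, Category.comp_id, whiskerRight_fst, ← Category.assoc, whiskerRight_snd]
    rw [toUnit_unique ((fst G H * (snd G H ≫ i)) ≫ toUnit G) (fst G H ≫ toUnit G), ← _root_.mul_assoc]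
  have e2 : fst G H ≫ tau g = (tau g ▷ H) ≫ fst G H := (whiskerRight_fst _ _).symm
  have hf' : ((G ◁ i) ≫ μ[G]).left.appTop f = (fst G H).left.appTop f := hf
  show ((G ◁ i) ≫ μ[G]).left.appTop ((tau g).left.appTop f) = (fst G H).left.appTop ((tau g).left.appTop f)
  rw [← CommRingCat.comp_apply, ← Scheme.Hom.comp_appTop, ← Over.comp_left, e1, ← CommRingCat.comp_apply,
    ← Scheme.Hom.comp_appTop, ← Over.comp_left, e2, Over.comp_left (g := (G ◁ i) ≫ μ[G]), Over.comp_left (g := fst G H),
    Scheme.Hom.comp_appTop, Scheme.Hom.comp_appTop, CommRingCat.comp_apply, CommRingCat.comp_apply, hf']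

/-- The induced automorphism of the invariants. -/
def sigma (g : 𝟙_ (Over (Spec (CommRingCat.of k))) ⟶ G) : ↥(AGF.rTransInv i) →+* ↥(AGF.rTransInv i) :=
  ((tau g).left.appTop.hom.comp (AGF.rTransInv i).subtype).codRestrict _ fun f => tau_mem i g f.2

/-- The map of the group into the spectrum of the invariants, on points. -/
def psi (x : G.left) : PrimeSpectrum ↥(AGF.rTransInv i) :=
  PrimeSpectrum.comap (AGF.rTransInv i).subtype (G.left.toSpecΓ x)

theorem continuous_psi : Continuous (psi i) :=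
  (PrimeSpectrum.continuous_comap _).comp G.left.toSpecΓ.continuous

theorem comap_sigma_psi (g : 𝟙_ (Over (Spec (CommRingCat.of k))) ⟶ G) (x : G.left) :
    PrimeSpectrum.comap (sigma i g) (psi i x) = psi i ((tau g).left x) := by
  have h : G.left.toSpecΓ ((tau g).left x) = PrimeSpectrum.comap (tau g).left.appTop.hom (G.left.toSpecΓ x) := by
    rw [← Scheme.Hom.comp_apply, Scheme.toSpecΓ_naturality]
    rfl
  rw [psi, psi, h, ← PrimeSpectrum.comap_comp_apply, ← PrimeSpectrum.comap_comp_apply]
  rfl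

theorem range_psi [IsAffine G.left] :
    Set.range (psi i) = Set.range (PrimeSpectrum.comap (AGF.rTransInv i).subtype) :=
  Function.Surjective.range_comp (g := PrimeSpectrum.comap (AGF.rTransInv i).subtype) G.left.toSpecΓ.surjective

theorem range_toSpec [IsAffine G.left] :
    Set.range ⇑(G.left.toSpecΓ ≫ Spec.map (CommRingCat.ofHom (AGF.rTransInv i).subtype)).base =
      Set.range (PrimeSpectrum.comap (AGF.rTransInv i).subtype) :=
  range_psi i

/-- The constants are invariant. -/
def constHom : k →+* ↥(AGF.rTransInv i) :=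
  ((Scheme.ΓSpecIso (CommRingCat.of k)).inv ≫ G.hom.appTop).hom.codRestrict _ fun c => by
    show ((G ◁ i) ≫ μ[G]).left.appTop (G.hom.appTop _) = (fst G H).left.appTop (G.hom.appTop _)
    rw [← CommRingCat.comp_apply, ← Scheme.Hom.comp_appTop, ← CommRingCat.comp_apply, ← Scheme.Hom.comp_appTop,
      Over.w ((G ◁ i) ≫ μ[G]), Over.w (fst G H)]

theorem isNoetherianRing_inv (hfg : AGF.SubringFGOver k G (AGF.rTransInv i)) :
    IsNoetherianRing ↥(AGF.rTransInv i) := by
  obtain ⟨s, hs, hle⟩ := hfg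
  let e : MvPolynomial {x // x ∈ s} k →+* ↥(AGF.rTransInv i) :=
    MvPolynomial.eval₂Hom (constHom i) fun x => ⟨x.1, hs x.2⟩
  refine isNoetherianRing_of_surjective _ _ e fun a => ?_
  have h : Subring.closure (Set.range (fun c : k => G.hom.appTop ((Scheme.ΓSpecIso (CommRingCat.of k)).inv c)) ∪ ↑s) ≤
      ((AGF.rTransInv i).subtype.comp e).range := by
    rw [Subring.closure_le]
    rintro _ (⟨c, rfl⟩ | hx)
    · exact ⟨MvPolynomial.C c, by simp [e, constHom]⟩
    · exact ⟨MvPolynomial.X ⟨_, hx⟩, by simp [e]⟩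
  obtain ⟨p, hp⟩ := h (hle a.2)
  exact ⟨p, Subtype.ext hp⟩

theorem finiteType_appTop [IsAffine G.left] [LocallyOfFiniteType G.hom] :
    (((Scheme.ΓSpecIso (CommRingCat.of k)).inv ≫ G.hom.appTop).hom).FiniteType := by
  have h := (HasRingHomProperty.iff_of_isAffine (P := @LocallyOfFiniteType)).1 (inferInstance : LocallyOfFiniteType G.hom)
  exact RingHom.finiteType_respectsIso.2 G.hom.appTop.hom
    ((Scheme.ΓSpecIso (CommRingCat.of k)).symm.commRingCatIsoToRingEquiv) h

/-- The image is open. -/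
theorem isOpen_image [IsAffine G.left] [LocallyOfFiniteType G.hom] (hfg : AGF.SubringFGOver k G (AGF.rTransInv i)) :
    IsOpen (Set.range (PrimeSpectrum.comap (AGF.rTransInv i).subtype)) := by
  haveI := isNoetherianRing_inv i hfg
  haveI : Nonempty G.left := ⟨rpt η[G]⟩
  haveI : JacobsonSpace G.left := LocallyOfFiniteType.jacobsonSpace G.hom
  have hft : (AGF.rTransInv i).subtype.FiniteType :=
    RingHom.FiniteType.of_comp_finiteType (f := constHom i) (finiteType_appTop (G := G))
  have hcons := PrimeSpectrum.isConstructible_range_comap (RingHom.FinitePresentation.of_finiteType.1 hft)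
  rw [← range_psi] at hcons ⊢
  haveI : Nontrivial ↥(AGF.rTransInv i) :=
    PrimeSpectrum.nonempty_iff_nontrivial.1 ⟨psi i (rpt η[G])⟩
  obtain ⟨q, hq, -⟩ := Ideal.exists_minimalPrimes_le (I := ⊥) (J := (psi i (rpt η[G])).asIdeal) bot_le
  have hdense : ⟨q, hq.1.1⟩ ∈ Set.range (psi i) := by
    rw [range_psi]
    exact (PrimeSpectrum.denseRange_comap_iff_minimalPrimes _).1
      ((PrimeSpectrum.denseRange_comap_iff_ker_le_nilRadical _).2 (by
        rw [(RingHom.injective_iff_ker_eq_bot _).1 Subtype.val_injective]; exact bot_le)) q hq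
  have hne : (psi i ⁻¹' interior (Set.range (psi i))).Nonempty := by
    obtain ⟨x, hx⟩ := hdense
    exact ⟨x, by rw [Set.mem_preimage, hx]; exact mem_interior_of_minimal hcons hq ⟨x, hx⟩⟩
  obtain ⟨x₁, hx₁, hx₁c⟩ := nonempty_inter_closedPoints hne
    (isOpen_interior.preimage (continuous_psi i)).isLocallyClosed
  obtain ⟨q₁, rfl⟩ := exists_rpt hx₁c
  have hclosed : ∀ q₀ : 𝟙_ (Over (Spec (CommRingCat.of k))) ⟶ G, psi i (rpt q₀) ∈ interior (Set.range (psi i)) := by
    intro q₀
    let g := q₁ * q₀⁻¹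
    refine mem_interior.2 ⟨PrimeSpectrum.comap (sigma i g) ⁻¹' interior (Set.range (psi i)), fun y hy => ?_,
      isOpen_interior.preimage (PrimeSpectrum.continuous_comap _), ?_⟩
    · obtain ⟨x, hx⟩ := interior_subset hy
      refine ⟨(tau g⁻¹).left x, ?_⟩
      rw [← comap_sigma_psi, hx, ← PrimeSpectrum.comap_comp_apply]
      have e : (sigma i g).comp (sigma i g⁻¹) = RingHom.id _ := by
        refine RingHom.ext fun f => Subtype.ext ?_
        show (tau g).left.appTop ((tau g⁻¹).left.appTop f.1) = f.1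
        rw [← CommRingCat.comp_apply, ← Scheme.Hom.comp_appTop, ← Over.comp_left, tau_tau, inv_mul_cancel, tau_one,
          Over.id_left, Scheme.Hom.id_appTop]
        rfl
      rw [e]
      rfl
    · rw [Set.mem_preimage, comap_sigma_psi, map_rpt, comp_tau, inv_mul_cancel_right]
      exact hx₁
  rw [← subset_interior_iff_isOpen]
  rintro _ ⟨x, rfl⟩
  obtain ⟨x', hx', hx'c⟩ := nonempty_inter_closedPoints (Z := closure {x}) ⟨x, subset_closure rfl⟩
    isClosed_closure.isLocallyClosed
  obtain ⟨q₀, rfl⟩ := exists_rpt hx'c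
  exact ((specializes_iff_mem_closure.2 hx').map (continuous_psi i)).mem_open isOpen_interior (hclosed q₀)

/-- The complement of the image has codimension at least two. -/
theorem two_le_height [IsAffine G.left] [IsAffine H.left] [LocallyOfFiniteType G.hom] [IsReduced G.left] [Flat H.hom]
    (hfg : AGF.SubringFGOver k G (AGF.rTransInv i)) (x : PrimeSpectrum ↥(AGF.rTransInv i))
    (hx : x ∉ Set.range (PrimeSpectrum.comap (AGF.rTransInv i).subtype)) : (2 : ℕ∞) ≤ x.asIdeal.height := by
  haveI := isNoetherianRing_inv i hfg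
  haveI : IsLocallyNoetherian G.left := LocallyOfFiniteType.isLocallyNoetherian G.hom
  haveI : IsNoetherianRing Γ(G.left, ⊤) :=
    IsLocallyNoetherian.component_noetherian ⟨(⊤ : G.left.Opens), isAffineOpen_top G.left⟩
  by_contra hh
  obtain ⟨t, s, F, ht, hs, hreg, hF⟩ := exists_fraction (AGF.rTransInv i).subtype Subtype.val_injective
    (isOpen_image i hfg) hx (not_le.1 hh)
  haveI : IsAffine (G ⊗ H).left := inferInstanceAs (IsAffine (pullback G.hom H.hom))
  haveI : Flat (fst G H).left := inferInstanceAs (Flat (pullback.fst G.hom H.hom))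
  have hFA : F ∈ AGF.rTransInv i :=
    eqLocus_of_mul ((G ◁ i) ≫ μ[G]).left.appTop.hom (fst G H).left.appTop.hom (fst G H).left.flat_appTop hreg t.2
      ((congrArg _ hF).trans (s.2.trans (congrArg _ hF).symm))
  exact hs ((show t * ⟨F, hFA⟩ = s from Subtype.ext hF) ▸ Ideal.mul_mem_right _ _ ht)

end Groth.Agent.GrossCodim
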